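import Groth.Agent.Lib.CohBasics.Closure
import Groth.Agent.Lib.CohDelta.BC.Flat
import Groth.Agent.Lib.TensorMod.LocFree
import Groth.Agent.Lib.Perfect.Coherent
import Groth.Agent.Lib.QCoh.Pushforward
import Groth.Agent.H19.FlatLocus.Scheme
import Mathlib.RingTheory.DiscreteValuationRing.Basic
import Mathlib.RingTheory.Flat.TorsionFree

/-!
# Quotients of free modules on the generic fibre extend flatly over a discrete valuation ring
-/

set_option autoImplicit false
set_option linter.style.haveILetI false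

universe u

open CategoryTheory CategoryTheory.Limits AlgebraicGeometry TopologicalSpace Opposite

namespace Groth.Agent.Lib.DvrExt53

open Groth.Agent.Lib

theorem away_fractionRing {R : Type u} [CommRing R] [IsDomain R] [IsDiscreteValuationRing R] {ϖ : R}
    (hϖ : Irreducible ϖ) : IsLocalization.Away ϖ (FractionRing R) := by
  refine (IsLocalization.iff_of_le_of_exists_dvd (Submonoid.powers ϖ) (nonZeroDivisors R)
    (Submonoid.powers_le.2 (mem_nonZeroDivisors_of_ne_zero hϖ.ne_zero)) fun r hr => ?_).2 inferInstance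
  obtain ⟨n, hn⟩ := IsDiscreteValuationRing.associated_pow_irreducible (nonZeroDivisors.ne_zero hr) hϖ
  exact ⟨ϖ ^ n, ⟨n, rfl⟩, hn.dvd⟩

/-- A module mapping injectively to a direct image from the generic fibre is flat. -/
theorem isFlatOver_of_mono {R : Type u} [CommRing R] [IsDomain R] [IsDiscreteValuationRing R]
    {P Q : Scheme.{u}} (p : P ⟶ Spec (CommRingCat.of R)) (j : Q ⟶ P)
    (k : Q ⟶ Spec (CommRingCat.of (FractionRing R)))
    (hjk : j ≫ p = k ≫ Spec.map (CommRingCat.ofHom (algebraMap R (FractionRing R))))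
    (M : P.Modules) [M.IsQuasicoherent] (F : Q.Modules)
    (ι : M ⟶ (Scheme.Modules.pushforward j).obj F) [Mono ι] : FlatMod.IsFlatOver p M := by
  intro x
  obtain ⟨U, hU, hxU, -⟩ := exists_isAffineOpen_mem_and_subset (X := P) (x := x) (U := ⊤) trivial
  let S := Spec (CommRingCat.of R)
  let V : S.Opens := ⊤
  have hUV : U ≤ p ⁻¹ᵁ V := fun _ _ => trivial
  rw [Groth.Agent.H19.FlatLocus.Scheme.isFlatOverAt_iff p M (isAffineOpen_top S) hU hUV hxU]
  letI : Algebra Γ(S, V) Γ(P, U) := (p.appLE V U hUV).hom.toAlgebra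
  letI : Module Γ(S, V) Γ(M, U) := Module.compHom Γ(M, U) (p.appLE V U hUV).hom
  haveI : IsScalarTower Γ(S, V) Γ(P, U) Γ(M, U) := IsScalarTower.of_algebraMap_smul fun _ _ ↦ rfl
  let e : R ≃+* Γ(S, V) := (Scheme.ΓSpecIso (CommRingCat.of R)).commRingCatIsoToRingEquiv.symm
  haveI : IsDomain Γ(S, V) := e.toMulEquiv.isDomain_iff.1 inferInstance
  haveI : IsPrincipalIdealRing Γ(S, V) := IsPrincipalIdealRing.of_surjective e.toRingHom e.surjective
  haveI : Module.IsTorsionFree Γ(S, V) Γ(M, U) := by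
    refine ⟨fun r hr a b hab => ?_⟩
    have hr0 : r ≠ 0 := fun h => (h ▸ hr : IsRegular (0 : Γ(S, V))).ne_zero rfl
    refine QCoh.Closure.sections_injective_of_mono ι U ?_
    have hu : IsUnit (j.app U (p.appLE V U hUV r)) := by
      have h1 : j.app U (p.appLE V U hUV r) = (j ≫ p).appLE V (j ⁻¹ᵁ U) (fun _ _ => trivial) r := by
        rw [Scheme.Hom.app_eq_appLE]
        exact ConcreteCategory.congr_hom
          (Scheme.Hom.appLE_comp_appLE j p V U (j ⁻¹ᵁ U) hUV le_rfl) r
      have key : ∀ (g : Q ⟶ S), g = k ≫ Spec.map (CommRingCat.ofHom (algebraMap R (FractionRing R))) →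
          ∀ e' : j ⁻¹ᵁ U ≤ g ⁻¹ᵁ V, IsUnit (g.appLE V (j ⁻¹ᵁ U) e' r) := by
        rintro _ rfl e'
        rw [← Scheme.Hom.appLE_comp_appLE k _ V ⊤ (j ⁻¹ᵁ U) (fun _ _ => trivial) (fun _ _ => trivial)]
        refine IsUnit.map (k.appLE ⊤ (j ⁻¹ᵁ U) _).hom ?_
        refine (isUnit_map_iff (Scheme.ΓSpecIso (CommRingCat.of (FractionRing R))).commRingCatIsoToRingEquiv _).1 ?_
        obtain ⟨r', rfl⟩ := e.surjective r
        have hr' : r' ≠ 0 := fun h => hr0 (by rw [h, map_zero])
        rw [isUnit_iff_ne_zero]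
        refine fun h0 => hr' ((IsFractionRing.to_map_eq_zero_iff (K := FractionRing R)).1 ?_)
        rw [← h0]
        have h2 := ConcreteCategory.congr_hom
          (Scheme.ΓSpecIso_naturality (CommRingCat.ofHom (algebraMap R (FractionRing R)))) (e r')
        refine Eq.trans ?_ h2.symm
        show algebraMap R (FractionRing R) r' = algebraMap R (FractionRing R) (e.symm (e r'))
        rw [e.symm_apply_apply]
      rw [h1]
      exact key _ hjk _
    let a' : Γ(F, j ⁻¹ᵁ U) := ι.app U a
    let b' : Γ(F, j ⁻¹ᵁ U) := ι.app U b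
    have hab' : j.app U (p.appLE V U hUV r) • a' = j.app U (p.appLE V U hUV r) • b' := by
      have ha := (ι.app_smul (p.appLE V U hUV r) a)
      have hb := (ι.app_smul (p.appLE V U hUV r) b)
      exact ha.symm.trans ((congrArg (ι.app U) hab).trans hb)
    exact (hu.smul_left_cancel (a := j.app U (p.appLE V U hUV r)) (x := a') (y := b')).1 hab'
  haveI : Module.Flat Γ(S, V) Γ(M, U) := inferInstance
  refine (Groth.Agent.H19.FlatLocus.flat_iff_killed (R := Γ(S, V))
    (hU.primeIdealOf ⟨x, hxU⟩).asIdeal.primeCompl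
    (LocalizedModule.mkLinearMap (hU.primeIdealOf ⟨x, hxU⟩).asIdeal.primeCompl Γ(M, U))).2
      fun J y hy => ⟨1, one_mem _, ?_⟩
  rw [one_smul]
  exact (Module.Flat.iff_lTensor_injective'.1 inferInstance J) (hy.trans (map_zero _).symm)

/-- The extension. -/
theorem exists_extension {P Q : Scheme.{u}} [IsLocallyNoetherian P] (j : Q ⟶ P) [IsOpenImmersion j]
    [QuasiCompact j] (N : ℕ) (F : Q.Modules) [F.IsQuasicoherent] (q : FlatMod.freeMod Q N ⟶ F) [Epi q] :
    ∃ (F' : P.Modules) (q' : FlatMod.freeMod P N ⟶ F'), Coh.IsCoh F' ∧ Epi q' ∧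
      (∃ ι : F' ⟶ (Scheme.Modules.pushforward j).obj F, Mono ι) ∧
      Nonempty ((Scheme.Modules.pullback j).obj F' ≅ F) := by
  let adj := Scheme.Modules.pullbackPushforwardAdjunction j
  let e := TensorMod.LocFree.pullbackFreeModIso j N
  let φ := (adj.homEquiv _ _) (e.hom ≫ q)
  haveI : ((Scheme.Modules.pushforward j).obj F).IsQuasicoherent := QCoh.Pushforward.isQCoh_pushforward j
  have hfree : Coh.IsCoh (FlatMod.freeMod P N) := Perfect.Coherent.isCoh_freeMod P N
  haveI := hfree.1
  haveI : (cokernel φ).IsQuasicoherent := QCoh.Closure.isQCoh_cokernel φ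
  haveI : (Abelian.image φ).IsQuasicoherent := QCoh.Closure.isQCoh_kernel (cokernel.π φ)
  refine ⟨Abelian.image φ, Abelian.factorThruImage φ, CohBasics.Closure.isCoh_of_epi
    (Abelian.factorThruImage φ) hfree, inferInstance, ⟨Abelian.image.ι φ, inferInstance⟩, ?_⟩
  haveI := CohDelta.BC.Flat.preservesFiniteLimits_pullback j
  haveI : (Scheme.Modules.pullback j).PreservesMonomorphisms := inferInstance
  haveI : IsIso adj.counit := inferInstance
  let ψ := (Scheme.Modules.pullback j).map (Abelian.image.ι φ) ≫ adj.counit.app F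
  haveI : Mono ψ := mono_comp _ _
  haveI : Epi ψ := by
    have h : (Scheme.Modules.pullback j).map (Abelian.factorThruImage φ) ≫ ψ = e.hom ≫ q := by
      rw [← Category.assoc, ← Functor.map_comp, Abelian.image.fac]
      exact (adj.homEquiv_counit _ _ _).symm.trans ((adj.homEquiv _ _).symm_apply_apply _)
    haveI : Epi ((Scheme.Modules.pullback j).map (Abelian.factorThruImage φ) ≫ ψ) := by
      rw [h]; exact epi_comp _ _
    exact epi_of_epi ((Scheme.Modules.pullback j).map (Abelian.factorThruImage φ)) ψ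
  haveI : IsIso ψ := isIso_of_mono_of_epi ψ
  exact ⟨asIso ψ⟩

end Groth.Agent.Lib.DvrExt53
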